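import Cfsg.Agent.Spor.U35aN1.D0

set_option autoImplicit false
set_option maxRecDepth 100000000
set_option Elab.async false

namespace Cfsg.Agent.Spor.U35aN1

theorem ok0 : Net.okb 1 n0 = true := by decide +kernel

theorem ok1 : Net.okb 1 n1 = true := by decide +kernel

theorem ok2 : Net.okb 1 n2 = true := by decide +kernel

theorem ok3 : Net.okb 1 n3 = true := by decide +kernel

theorem ok4 : Net.okb 1 n4 = true := by decide +kernel

theorem ok5 : Net.okb 1 n5 = true := by decide +kernel

theorem rel0 : T.rel 1 [1, 1] 0 1 = true := by decide +kernel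

theorem rel1 : T.rel 1 [2, 2] 0 1 = true := by decide +kernel

theorem rel2 : T.rel 1 [3, 3] 0 1 = true := by decide +kernel

theorem rel3 : T.rel 1 [4, 4] 0 1 = true := by decide +kernel

theorem rel4 : T.rel 1 [5, 5] 0 1 = true := by decide +kernel

theorem rel5 : T.rel 1 [6, 6] 0 1 = true := by decide +kernel

theorem rel6 : T.rel 1 [3, 4, 5, 3, 5, 4] 0 1 = true := by decide +kernel

theorem rel7 : T.rel 1 [2, 3, 4, 3, 2, 4] 0 1 = true := by decide +kernel

theorem rel8 : T.rel 1 [2, 5, 4, 2, 5, 4, 5, 2, 4, 5] 0 1 = true := by decide +kernel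

theorem rel9 : T.rel 1 [2, 3, 2, 3, 2, 3] 0 1 = true := by decide +kernel

theorem rel10 : T.rel 1 [2, 5, 2, 5, 2, 5] 0 1 = true := by decide +kernel

theorem rel11 : T.rel 1 [1, 3, 4, 3, 4] 0 1 = true := by decide +kernel

theorem rel12 : T.rel 1 [5, 6, 5, 6] 0 1 = true := by decide +kernel

theorem rel13 : T.rel 1 [1, 2, 1, 2] 0 1 = true := by decide +kernel

theorem rel14 : T.rel 1 [1, 4, 5, 1, 5, 4] 0 1 = true := by decide +kernel

theorem rel15 : T.rel 1 [4, 6, 4, 6, 4, 6] 0 1 = true := by decide +kernel

theorem rel16 : T.rel 1 [2, 6, 2, 6, 2, 6] 0 1 = true := by decide +kernel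

theorem rel17 : T.rel 1 [3, 5, 6, 1, 6, 1, 6, 3, 5] 0 1 = true := by decide +kernel

theorem rel18 : T.rel 1 [6, 1, 2, 3, 6, 3, 6, 4, 3, 2, 6, 2, 3] 0 1 = true := by decide +kernel

theorem rel19 : T.rel 1 [1] 0 1 = true := by decide +kernel

theorem hcov : T.treeCov (ones 1) L 1 = true := by decide +kernel

theorem hg : lall (fun z => band (memL L z) (band (sub (ones 1) (T.let z).cl) (T.closed (ones 1) z))) gs = true := by decide +kernel

theorem hivk : ivOk (2 * 6) EX IV = true := by decide +kernel

theorem hrt : RT.ok (2 * 6) EX RL = true := by decide +kernel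

theorem hdefs : defs F 55 = true := by decide +kernel

noncomputable def st0_l : List Nat := [nat_lit 0x1, nat_lit 0x8001bc02, nat_lit 0x20003880000c03, nat_lit 0x3001, nat_lit 0x3a00003002, nat_lit 0x20000040003980001c04, nat_lit 0xf0000100000200001c04, nat_lit 0x4800022000790000300002405, nat_lit 0x58000f0000100000200000805, nat_lit 0x7001, nat_lit 0x4000007002, nat_lit 0x28000e40000b00041000028000120007c0000900001009, nat_lit 0x4200002802, nat_lit 0x680000c000860000380006c05, nat_lit 0x9000020000040000380006405, nat_lit 0x9801, nat_lit 0x4600009802, nat_lit 0x50000ec0001500047000050000260007d0000400001409, nat_lit 0x4800005002, nat_lit 0x880001c000920000780008c05, nat_lit 0xb801, nat_lit 0x4b0000b802, nat_lit 0x68000f40001b0004c000068000320008a000120001e409, nat_lit 0x134000880004d80001804, nat_lit 0x160004e80000803, nat_lit 0x4e00001802, nat_lit 0x4f0000a402, nat_lit 0x4f0001fc02, nat_lit 0x4f0000ac02, nat_lit 0x4f0000b402, nat_lit 0x128000220000700001000140000870000280024c0000800002000388002a40c, nat_lit 0x28800006000050000780007c05,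 nat_lit 0x2b000144000a4000518002b405, nat_lit 0x2a00000600087000010002a405, nat_lit 0x580002a800128000ab000580002a806, nat_lit 0x590002a802, nat_lit 0x23000590002a003, nat_lit 0xa20005b00007c03, nat_lit 0xa60005b00008403, nat_lit 0x5b00008c02, nat_lit 0x5c0002b402, nat_lit 0x5c00028802, nat_lit 0x5d00029802, nat_lit 0xc00015e000c10005280030805, nat_lit 0x32000618002f403, nat_lit 0xd001, nat_lit 0x640000d002, nat_lit 0x31c00168000bc000380002f400194000bc0006100031009, nat_lit 0xc6000668000c003, nat_lit 0x19c000b40006780030404, nat_lit 0x4000d00005f80034404, nat_lit 0x180034c02, nat_lit 0xe001, nat_lit 0x6b0000e002, nat_lit 0x3a0006c8000ec03, nat_lit 0xe80006c000d50001b8000ec05, nat_lit 0x84000dd0006d80010c04, nat_lit 0x84000dd0002180037c04, nat_lit 0x37800084000dd0001d0000f405, nat_lit 0xe20007000038c03, nat_lit 0x11000086000df0002100011405, nat_lit 0x90000e50001e0000d804, nat_lit 0x1280007c0003d000248003a405, nat_lit 0x13001, nat_lit 0x7600013002, nat_lit 0x100001b000041000770001000007e0004b000758000dc09, nat_lit 0x7800010002, nat_lit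 0x11800074000f20001d80011c05, nat_lit 0x13801, nat_lit 0x7b00013802, nat_lit 0x118001b4000470007c0001180008a000e70002200037409, nat_lit 0x1f4000f40007d8000e804, nat_lit 0x1f8000dc0007e8000d804, nat_lit 0x1b8003fc02, nat_lit 0xa0001010003880014404, nat_lit 0xa0001010002880040c04, nat_lit 0x408000a0001010006a80014405, nat_lit 0x148000a0001010002880014c05, nat_lit 0x15801, nat_lit 0x8500015802, nat_lit 0x150002080005500086000150000a6001090002900040c09, nat_lit 0x8700015002, nat_lit 0x4400020c00102000888004140020e001030008880040c0022200050000808003540d, nat_lit 0x2880044c02, nat_lit 0x1600022a001010008a80016405, nat_lit 0x1600022a000710008a80016405, nat_lit 0x5a0008c80016c03, nat_lit 0x168000b0000d50002c80016c05, nat_lit 0x620008e80018c03, nat_lit 0x19001, nat_lit 0x9000019002, nat_lit 0x170002300005d00091000170000b0001010002c80045c09, nat_lit 0x9200017002, nat_lit 0x188000b4001260002d80018c05, nat_lit 0xcc0005e0008d80018404, nat_lit 0x17800238000610009500019805, nat_lit 0x1a001, nat_lit 0x970001a002, nat_lit 0x1880023400063000980001880023a0005f0009680017809,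 nat_lit 0x264001280009980016804, nat_lit 0x9a0004c80023c001330009a80016006, nat_lit 0x2c8004dc02, nat_lit 0x1b001, nat_lit 0x9d0001b002, nat_lit 0x1a8000e00006b0009e0001a800272001010009c80040409, nat_lit 0x358004fc02]
theorem st0 : band (steps F IV RT base st0_l 55) (Nat.beq (Nat.add 55 (llen st0_l)) 161) = true := by decide +kernel

theorem ep0a : T.treePath [] (Nat.shiftLeft 1 0) 1 = true := by decide +kernel

theorem ep0b : T.treePath [] (Nat.shiftLeft 1 0) 1 = true := by decide +kernel

theorem ep0c : band (lall (fun z => Nat.ble z 255) ([] ++ 1 :: [])) (concl F IV 161 0x1c001 (encA ([] ++ 1 :: []) 0)) = true := by decide +kernel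

theorem ep0d : band (Rule.ok (2 * 6) EX [] ⟨lapp [] [], [], 0, false⟩) (band (lall (memL L) []) (lall (memL L) [])) = true := by decide +kernel

theorem cov1 : T.cover 1 [(Nat.shiftLeft 1 0)] = true := by decide +kernel

theorem tl1 : Nat.beq (T.let 1).tt 0 = true := by decide +kernel

theorem ep1a : T.treePath [] (Nat.shiftLeft 1 0) 1 = true := by decide +kernel

theorem ep1b : T.treePath [] (Nat.shiftLeft 1 0) 1 = true := by decide +kernel

theorem ep1c : band (lall (fun z => Nat.ble z 255) ([] ++ 2 :: [])) (concl F IV 161 0x35001 (encA ([] ++ 2 :: []) 0)) = true := by decide +kernel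

theorem ep1d : band (Rule.ok (2 * 6) EX [] ⟨lapp [] [], [], 0, false⟩) (band (lall (memL L) []) (lall (memL L) [])) = true := by decide +kernel

theorem cov2 : T.cover 2 [(Nat.shiftLeft 1 0)] = true := by decide +kernel

theorem tl2 : Nat.beq (T.let 2).tt 0 = true := by decide +kernel

theorem ep2a : T.treePath [] (Nat.shiftLeft 1 0) 1 = true := by decide +kernel

theorem ep2b : T.treePath [] (Nat.shiftLeft 1 0) 1 = true := by decide +kernel

theorem ep2c : band (lall (fun z => Nat.ble z 255) ([] ++ 3 :: [])) (concl F IV 161 0x40001 (encA ([] ++ 3 :: []) 0)) = true := by decide +kernel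

theorem ep2d : band (Rule.ok (2 * 6) EX [] ⟨lapp [] [], [], 0, false⟩) (band (lall (memL L) []) (lall (memL L) [])) = true := by decide +kernel

theorem cov3 : T.cover 3 [(Nat.shiftLeft 1 0)] = true := by decide +kernel

theorem tl3 : Nat.beq (T.let 3).tt 0 = true := by decide +kernel

theorem ep3a : T.treePath [] (Nat.shiftLeft 1 0) 1 = true := by decide +kernel

theorem ep3b : T.treePath [] (Nat.shiftLeft 1 0) 1 = true := by decide +kernel

theorem ep3c : band (lall (fun z => Nat.ble z 255) ([] ++ 4 :: [])) (concl F IV 161 0x45001 (encA ([] ++ 4 :: []) 0)) = true := by decide +kernel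

theorem ep3d : band (Rule.ok (2 * 6) EX [] ⟨lapp [] [], [], 0, false⟩) (band (lall (memL L) []) (lall (memL L) [])) = true := by decide +kernel

theorem cov4 : T.cover 4 [(Nat.shiftLeft 1 0)] = true := by decide +kernel

theorem tl4 : Nat.beq (T.let 4).tt 0 = true := by decide +kernel

theorem ep4a : T.treePath [] (Nat.shiftLeft 1 0) 1 = true := by decide +kernel

theorem ep4b : T.treePath [] (Nat.shiftLeft 1 0) 1 = true := by decide +kernel

theorem ep4c : band (lall (fun z => Nat.ble z 255) ([] ++ 5 :: [])) (concl F IV 161 0x4e001 (encA ([] ++ 5 :: []) 0)) = true := by decide +kernel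

theorem ep4d : band (Rule.ok (2 * 6) EX [] ⟨lapp [] [], [], 0, false⟩) (band (lall (memL L) []) (lall (memL L) [])) = true := by decide +kernel

theorem cov5 : T.cover 5 [(Nat.shiftLeft 1 0)] = true := by decide +kernel

theorem tl5 : Nat.beq (T.let 5).tt 0 = true := by decide +kernel

theorem ep5a : T.treePath [] (Nat.shiftLeft 1 0) 1 = true := by decide +kernel

theorem ep5b : T.treePath [] (Nat.shiftLeft 1 0) 1 = true := by decide +kernel

theorem ep5c : band (lall (fun z => Nat.ble z 255) ([] ++ 6 :: [])) (concl F IV 161 0x50001 (encA ([] ++ 6 :: []) 0)) = true := by decide +kernel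

theorem ep5d : band (Rule.ok (2 * 6) EX [] ⟨lapp [] [], [], 0, false⟩) (band (lall (memL L) []) (lall (memL L) [])) = true := by decide +kernel

theorem cov6 : T.cover 6 [(Nat.shiftLeft 1 0)] = true := by decide +kernel

theorem tl6 : Nat.beq (T.let 6).tt 0 = true := by decide +kernel

end Cfsg.Agent.Spor.U35aN1
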